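import Cfsg.Agent.H779.G2.Stmts3

/-!
# S5211: the first half of (La2), common to `q = 4` and `q ≥ 8`
-/

set_option autoImplicit false

namespace Cfsg.Agent.H889.GT

open Cfsg Cfsg.FusionSystem Cfsg.Agent.H756.PU Cfsg.Agent.H779.G2

universe u

/-- `γ` acts on `Q_a / Z₁` as the Weyl element `w_α` -/
def ActW {K : Type u} [Field K] (γ : MulAut (Qa K)) : Prop :=
  ∀ g : Qa K, ((γ g : Qa K) : GU K).b = (g : GU K).e ∧ ((γ g : Qa K) : GU K).c = - (g : GU K).d ∧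
    ((γ g : Qa K) : GU K).d = (g : GU K).c ∧ ((γ g : Qa K) : GU K).e = - (g : GU K).b

/-- first half of (La2), `q = 2ⁿ ≥ 4`: the torus `(t², t⁻³)` is in `D`, some element of `Γ` acts as the Weyl element on `Q_a / Z₁`,
and `Γ` is generated by it, `Aut_S(Q_a)` and the normalizer of `Aut_S(Q_a)` -/
def StHalf : Prop :=
  ∀ {K : Type u} [Field K] {n : ℕ}, HypG K 2 n → 2 ≤ n →
    ∀ (Γ : Subgroup (MulAut (Qa K))) (D : Subgroup (MulAut (GU K))), Par 2 (Qa K) Γ D →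
    HasTor D (fun t => t ^ 2) (fun t => (t ^ 3)⁻¹) ∧ (∃ w ∈ Γ, ActW w) ∧
    ∀ w ∈ Γ, ActW w → ∀ γ ∈ Γ,
      ∃ l ∈ Subgroup.closure ((autInducedBy (⊤ : Subgroup (GU K)) (Qa K) : Set (MulAut (Qa K))) ∪ {w}), NormAut ⊤ (l * γ)

end Cfsg.Agent.H889.GT
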