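import Cfsg.Agent.H889.GT.Half
import Cfsg.Agent.H103.GT.Grp
import Cfsg.Agent.H802.FusBasic

/-!
# S5211, `q = 4`: automorphisms of `Q_a` acting trivially on `Q_a / Z₁`
-/

set_option autoImplicit false

namespace Cfsg.Agent.H889.GT

open Cfsg Cfsg.FusionSystem Cfsg.Agent.H756.PU Cfsg.Agent.H779.G2 Cfsg.Agent.H103.GT

universe u

variable {K : Type u} [Field K]

/-- the field of order four -/
theorem f4 (hK : HypG K 2 2) : (2 : K) = 0 ∧ (3 : K) ≠ 0 ∧
    ∃ ω : K, ω ^ 2 = ω + 1 ∧ ∀ x : K, x = 0 ∨ x = 1 ∨ x = ω ∨ x = ω + 1 := by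
  have := hK.fin
  have hc := hK.char
  have h2 : (2 : K) = 0 := by
    have := CharP.cast_eq_zero K 2
    exact_mod_cast this
  have h3 : (3 : K) ≠ 0 := by
    have : (3 : K) = 1 := by linear_combination h2
    rw [this]; exact one_ne_zero
  refine ⟨h2, h3, ?_⟩
  have hcard : Nat.card K = 4 := by rw [hK.card]; norm_num
  have h4 : ∀ x : K, x ^ 4 = x := by
    intro x
    have : Fintype K := Fintype.ofFinite K
    have h := FiniteField.pow_card x
    rwa [← Nat.card_eq_fintype_card, hcard] at h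
  obtain ⟨ω, h0, h1⟩ : ∃ ω : K, ω ≠ 0 ∧ ω ≠ 1 := by
    by_contra hcon
    push Not at hcon
    have hsub : (Set.univ : Set K) ⊆ {0, 1} := by
      intro x _
      by_cases hx : x = 0
      · left; exact hx
      · right; exact hcon x hx
    have h5 : (Set.univ : Set K).ncard ≤ ({0, 1} : Set K).ncard := Set.ncard_le_ncard hsub (Set.toFinite _)
    rw [Set.ncard_univ, hcard, Set.ncard_pair (zero_ne_one)] at h5
    omega
  have hω : ω ^ 2 = ω + 1 := by
    have h5 : ω * ((ω - 1) * (ω ^ 2 + ω + 1)) = 0 := by linear_combination h4 ω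
    have h6 := (mul_eq_zero.1 ((mul_eq_zero.1 h5).resolve_left h0)).resolve_left (sub_ne_zero.2 h1)
    linear_combination h6 - (ω + 1) * h2
  refine ⟨ω, hω, fun x => ?_⟩
  have h5 : x * ((x - 1) * ((x - ω) * (x - (ω + 1)))) = 0 := by
    linear_combination h4 x + (x ^ 2 - x) * hω + (-(x ^ 3) * (ω + 1) + x ^ 2 * (ω + 1) + (x^2 - x) * ω) * h2
  rcases mul_eq_zero.1 h5 with h | h
  · exact Or.inl h
  rcases mul_eq_zero.1 h with h | h
  · exact Or.inr (Or.inl (sub_eq_zero.1 h))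
  rcases mul_eq_zero.1 h with h | h
  · exact Or.inr (Or.inr (Or.inl (sub_eq_zero.1 h)))
  · exact Or.inr (Or.inr (Or.inr (sub_eq_zero.1 h)))

/-- additive functions on `F₄` -/
theorem add_form {ω : K} (h2 : (2 : K) = 0) (hω : ω ^ 2 = ω + 1)
    (hall : ∀ x : K, x = 0 ∨ x = 1 ∨ x = ω ∨ x = ω + 1) (l : K → K) (hadd : ∀ x y, l (x + y) = l x + l y) :
    ∃ p q, ∀ x, l x = p * x + q * x ^ 2 := by
  have h0 : l 0 = 0 := by
    have := hadd 0 0
    rw [add_zero] at this
    linear_combination -this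
  refine ⟨l 1 + (ω * l 1 + l ω), ω * l 1 + l ω, fun x => ?_⟩
  rcases hall x with rfl | rfl | rfl | rfl
  · rw [h0]; ring
  · linear_combination (-(ω * l 1) - l ω) * h2
  · linear_combination (-(l x) * hω) - (l 1 * x) * hω - (x * l x + x * l 1 + x^2 * l 1) * h2
  · rw [hadd]
    linear_combination (-(ω * l 1 + l ω)) * hω + (-(ω * l 1 + l ω) * (2 * ω + 1) - ω * l 1) * h2

end Cfsg.Agent.H889.GT
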